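import Groth.Agent.LC15.PicDesc.Generic
import Groth.Agent.Div89.DescUnit
import Mathlib.AlgebraicGeometry.Noetherian

/-!
Sections vanishing on a generic fibre; sections of the generic fibre as fractions.
-/

set_option autoImplicit false
set_option linter.style.haveILetI false
set_option linter.unusedSectionVars false
set_option backward.isDefEq.respectTransparency.types false

universe u

open CategoryTheory AlgebraicGeometry TopologicalSpace Opposite IsLocalRing
open scoped nonZeroDivisors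

noncomputable section

namespace Groth.Agent.LC15.PicDesc

open Var76.LineBundle Var76.ZeroScheme

variable {X Y : Scheme.{u}} (f : X ⟶ Y) [Flat f] (hY : Pi1.IsNormalScheme Y) {η : Y} (hη : IsMaxPt η)

include hY hη in
theorem fiberι_stalkMap_injective (w : f.fiber η) : Function.Injective ((f.fiberι η).stalkMap w).hom := by
  rw [RingHom.injective_iff_ker_eq_bot, FlatMor68.FibreStalk.ker_fiberι_stalkMap]
  have key : ∀ y : Y, IsMaxPt y → maximalIdeal (Y.presheaf.stalk y) = ⊥ := fun y hy => by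
    haveI := (hY y).1
    exact isField_iff_maximalIdeal_eq.1 (isField_stalk hy)
  rw [key _ (by rw [apply_fiberι]; exact hη), Ideal.map_bot]

include hY hη in
theorem sec_eq_zero {U : X.Opens} (hU : ∀ x ∈ U, η ⤳ f x) (z : Γ(X, U))
    (hz : (f.fiberι η).app U z = 0) : z = 0 := by
  refine TopCat.Presheaf.section_ext X.sheaf U _ _ fun x hx => ?_
  show (X.presheaf.germ U x hx).hom z = (X.presheaf.germ U x hx).hom 0
  rw [map_zero]
  haveI := (hY (f x)).1
  letI := (f.stalkMap x).hom.toAlgebra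
  haveI : Module.Flat (Y.presheaf.stalk (f x)) (X.presheaf.stalk x) := Flat.stalkMap f x
  set zx := (X.presheaf.germ U x hx).hom z
  by_contra hne
  let I : Ideal (X.presheaf.stalk x) := Submodule.colon ⊥ {zx}
  have hdisj : Disjoint (I : Set (X.presheaf.stalk x))
      ((Y.presheaf.stalk (f x))⁰.map (f.stalkMap x).hom : Set (X.presheaf.stalk x)) := by
    rw [Set.disjoint_left]
    rintro _ hc ⟨t, ht, rfl⟩
    refine hne (Module.Flat.isSMulRegular_of_nonZeroDivisors (M := X.presheaf.stalk x) ht ?_)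
    show t • zx = t • (0 : X.presheaf.stalk x)
    rw [smul_zero, Algebra.smul_def]
    exact (Submodule.mem_bot _).1 (Submodule.mem_colon_singleton.1 hc)
  obtain ⟨Q, hQ, hIQ, hQM⟩ := Ideal.exists_le_prime_disjoint _ _ hdisj
  let qq : PrimeSpectrum (X.presheaf.stalk x) := ⟨Q, hQ⟩
  have hx' : (X.fromSpecStalk x).base qq ⤳ x := Cyc90.fromSpecStalk_specializes qq
  have hgQ : (Cyc90.genPrime hx').asIdeal = Q := by rw [Cyc90.genPrime_fromSpecStalk]
  have hfx : f ((X.fromSpecStalk x).base qq) = η := eq_of_specializes_map hη f hx' (hU x hx) (by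
    rw [hgQ, eq_bot_iff]
    intro t ht
    refine Ideal.mem_bot.2 (by_contra fun ht0 => ?_)
    exact Set.disjoint_left.1 hQM ht ⟨t, mem_nonZeroDivisors_of_ne_zero ht0, rfl⟩)
  obtain ⟨w, hw⟩ : (X.fromSpecStalk x).base qq ∈ Set.range (f.fiberι η) := by
    rw [Scheme.Hom.range_fiberι]; exact hfx
  have hwx : f.fiberι η w ⤳ x := hw ▸ hx'
  have h0 : (X.presheaf.stalkSpecializes hwx).hom zx = 0 := by
    refine fiberι_stalkMap_injective f hY hη w ?_
    rw [map_zero]
    erw [TopCat.Presheaf.germ_stalkSpecializes_apply, Scheme.Hom.germ_stalkMap_apply, hz]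
    exact map_zero _
  letI := (X.presheaf.stalkSpecializes hwx).hom.toAlgebra
  haveI := Cyc90.isLocalization_genPrime hwx
  obtain ⟨⟨t, ht⟩, htz⟩ := (IsLocalization.map_eq_zero_iff (Cyc90.genPrime hwx).asIdeal.primeCompl
    (X.presheaf.stalk (f.fiberι η w)) zx).1 h0
  have hQe : (Cyc90.genPrime hwx).asIdeal = Q := by
    rw [(Cyc90.genPrime_eq_iff hwx hx').2 hw, hgQ]
  exact ht (hQe.symm ▸ hIQ (Submodule.mem_colon_singleton.2 ((Submodule.mem_bot _).2 htz)))

theorem isAffineHom_fromSpecResidueField (η : Y) : IsAffineHom (Y.fromSpecResidueField η) := by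
  refine ⟨fun U _ => ?_⟩
  by_cases h : η ∈ U
  · rw [show (Y.fromSpecResidueField η) ⁻¹ᵁ U = ⊤ from
      TopologicalSpace.Opens.ext (Set.eq_univ_of_forall fun s => by
        show Y.fromSpecResidueField η s ∈ U
        rw [Scheme.fromSpecResidueField_apply]; exact h)]
    exact isAffineOpen_top _
  · rw [show (Y.fromSpecResidueField η) ⁻¹ᵁ U = ⊥ from
      TopologicalSpace.Opens.ext (Set.eq_empty_of_forall_notMem fun s hs => h (by
        have : Y.fromSpecResidueField η s ∈ U := hs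
        rwa [Scheme.fromSpecResidueField_apply] at this))]
    exact isAffineOpen_bot _

include hY hη in
/-- Sections of the generic fibre of an affine open are fractions with denominators from the base. -/
theorem exists_lift (U : X.affineOpens) (V : Y.affineOpens) (hUV : U.1 ≤ f ⁻¹ᵁ V.1) (hηV : η ∈ V.1)
    (h : Γ(f.fiber η, f.fiberι η ⁻¹ᵁ U.1)) :
    ∃ (t : Γ(Y, V.1)) (b : Γ(X, U.1)), IsUnit ((Y.presheaf.germ V.1 η hηV).hom t) ∧
      (f.fiberι η).app U.1 b = psi f η U.1 ((Y.presheaf.germ V.1 η hηV).hom t) * h := by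
  haveI := (hY η).1
  have haff : IsAffineOpen ((f.fiberι η) ⁻¹ᵁ U.1) := by
    haveI : IsAffineHom (f.fiberι η) := MorphismProperty.pullback_fst _ _ (isAffineHom_fromSpecResidueField η)
    exact U.2.preimage (f.fiberι η)
  let J : Ideal Γ(X, U.1) :=
    { carrier := {r | ∃ b, (f.fiberι η).app U.1 b = (f.fiberι η).app U.1 r * h}
      zero_mem' := ⟨0, by simp⟩
      add_mem' := by
        rintro r r' ⟨b, hb⟩ ⟨b', hb'⟩
        exact ⟨b + b', by rw [map_add, map_add, add_mul, hb, hb']⟩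
      smul_mem' := by
        rintro c r ⟨b, hb⟩
        exact ⟨c * b, by rw [smul_eq_mul, map_mul, map_mul, hb, mul_assoc]⟩ }
  let M : Submonoid Γ(X, U.1) := (Div89.primeAt V η hηV).primeCompl.map (f.appLE V.1 U.1 hUV).hom
  by_contra! hcon
  have hdisj : Disjoint (J : Set Γ(X, U.1)) (M : Set Γ(X, U.1)) := by
    rw [Set.disjoint_left]
    rintro _ ⟨b, hb⟩ ⟨t, ht, rfl⟩
    rw [app_appLE f η hηV hUV t] at hb
    exact hcon t b ((Div89.germ_isUnit_iff V η hηV t).2 ht) hb
  obtain ⟨Q, hQ, hJQ, hQM⟩ := Ideal.exists_le_prime_disjoint J M hdisj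
  obtain ⟨x', hx', hxQ⟩ := Div89.exists_point U Q
  have hfx : f x' = η := by
    refine hη _ ((Div89.specializes_iff_primeAt_le V hηV (hUV hx')).2 fun t ht => by_contra fun htη => ?_)
    refine (Div89.germ_isUnit_iff V (f x') (hUV hx') t).1 ?_ ht
    refine IsUnit.of_map (f.stalkMap x').hom _ ?_
    rw [← germ_appLE f hUV x' hx', Div89.germ_isUnit_iff U x' hx', hxQ]
    exact fun h => Set.disjoint_left.1 hQM h ⟨t, htη, rfl⟩
  obtain ⟨w, rfl⟩ : x' ∈ Set.range (f.fiberι η) := by rw [Scheme.Hom.range_fiberι]; exact hfx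
  obtain ⟨v, hv⟩ := FlatMor68.FibreStalk.fiberι_stalkMap_surjective f η w
    (((f.fiber η).presheaf.germ ((f.fiberι η) ⁻¹ᵁ U.1) w hx').hom h)
  letI := Div89.stalkAlg U.1 ((f.fiberι η) w) hx'
  haveI := Div89.isLocalization_stalk U ((f.fiberι η) w) hx'
  obtain ⟨⟨b, s⟩, hbs⟩ := IsLocalization.surj (Div89.primeAt U ((f.fiberι η) w) hx').primeCompl v
  change v * (X.presheaf.germ U.1 ((f.fiberι η) w) hx').hom s.1 = (X.presheaf.germ U.1 ((f.fiberι η) w) hx').hom b at hbs
  set z := (f.fiberι η).app U.1 b - (f.fiberι η).app U.1 s.1 * h with hz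
  have hzw : ((f.fiber η).presheaf.germ ((f.fiberι η) ⁻¹ᵁ U.1) w hx').hom z = 0 := by
    rw [hz, map_sub, map_mul, ← hv, sub_eq_zero]
    erw [← Scheme.Hom.germ_stalkMap_apply (f.fiberι η) U.1 w hx' b, ← Scheme.Hom.germ_stalkMap_apply (f.fiberι η) U.1 w hx' s.1]
    show ((f.fiberι η).stalkMap w).hom _ = _
    rw [← hbs, map_mul, mul_comm]
  obtain ⟨O, hwO, i₁, i₂, hO⟩ := (f.fiber η).presheaf.germ_eq w (U := (f.fiberι η) ⁻¹ᵁ U.1) (V := (f.fiberι η) ⁻¹ᵁ U.1) hx' hx' z 0 (hzw.trans (map_zero _).symm)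
  obtain ⟨T, hT, hTO⟩ := (f.fiberι η).isEmbedding.isInducing.isOpen_iff.1 O.2
  obtain ⟨r, hr, hwr⟩ := U.2.exists_basicOpen_le (V := ⟨T, hT⟩ ⊓ U.1)
    ⟨(f.fiberι η) w, ⟨show (f.fiberι η) w ∈ T from (show w ∈ (f.fiberι η) ⁻¹' T from hTO.symm ▸ hwO), hx'⟩⟩ hx'
  have hle : (f.fiber η).basicOpen ((f.fiberι η).app U.1 r) ≤ O := by
    rw [← Scheme.preimage_basicOpen]
    intro p hp
    exact (Set.ext_iff.1 hTO p).1 (hr hp).1
  letI : Algebra Γ(f.fiber η, (f.fiberι η) ⁻¹ᵁ U.1) Γ(f.fiber η, (f.fiber η).basicOpen ((f.fiberι η).app U.1 r)) :=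
    ((f.fiber η).presheaf.map (homOfLE ((f.fiber η).basicOpen_le ((f.fiberι η).app U.1 r))).op).hom.toAlgebra
  haveI : IsLocalization.Away ((f.fiberι η).app U.1 r) Γ(f.fiber η, (f.fiber η).basicOpen ((f.fiberι η).app U.1 r)) :=
    haff.isLocalization_basicOpen ((f.fiberι η).app U.1 r)
  have hz0 : algebraMap Γ(f.fiber η, (f.fiberι η) ⁻¹ᵁ U.1) Γ(f.fiber η, (f.fiber η).basicOpen ((f.fiberι η).app U.1 r)) z = 0 := by
    have h1 := congrArg ((f.fiber η).presheaf.map (homOfLE hle).op).hom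
      (show ((f.fiber η).presheaf.map i₁.op).hom z = 0 from hO.trans (map_zero _))
    rw [map_zero, ← CommRingCat.comp_apply, ← Functor.map_comp] at h1
    exact h1
  obtain ⟨⟨_, N, rfl⟩, hN⟩ := (IsLocalization.map_eq_zero_iff (Submonoid.powers ((f.fiberι η).app U.1 r)) _ z).1 hz0
  have hmem : r ^ N * s.1 ∈ J := by
    refine ⟨r ^ N * b, ?_⟩
    replace hN : ((f.fiberι η).app U.1 r) ^ N * z = 0 := hN
    rw [hz, mul_sub, sub_eq_zero] at hN
    rw [map_mul, map_mul, map_pow, hN, mul_assoc]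
  refine ((hQ.mem_or_mem (hJQ hmem)).elim (fun h => ?_) fun h => s.2 (hxQ.ge h))
  exact (Div89.mem_primeAt_iff U ((f.fiberι η) w) hx' r).1 (hxQ.ge (hQ.mem_of_pow_mem N h)) hwr

/-- A prime of height one in the base extends to a prime when its fibre is integral. -/
theorem isPrime_map_stalk (hfib : ∀ y : Y, ringKrullDim (Y.presheaf.stalk y) = 1 → IsIntegral (f.fiber y)) (x : X)
    (p : Ideal (Y.presheaf.stalk (f x))) [p.IsPrime] (hp : p.height = 1) :
    (p.map (f.stalkMap x).hom).IsPrime := by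
  letI := (f.stalkMap x).hom.toAlgebra
  haveI : Module.Flat (Y.presheaf.stalk (f x)) (X.presheaf.stalk x) := Flat.stalkMap f x
  haveI : IsLocalHom (algebraMap (Y.presheaf.stalk (f x)) (X.presheaf.stalk x)) :=
    inferInstanceAs (IsLocalHom (f.stalkMap x).hom)
  haveI : Module.FaithfullyFlat (Y.presheaf.stalk (f x)) (X.presheaf.stalk x) :=
    Module.FaithfullyFlat.of_flat_of_isLocalHom
  let pp : PrimeSpectrum (Y.presheaf.stalk (f x)) := ⟨p, inferInstance⟩
  set y' : Y := (Y.fromSpecStalk (f x)).base pp with hy'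
  have hgen : ∀ (z : Y) (h : z ⤳ f x), z = y' → (Cyc90.genPrime h).asIdeal = p := fun z h e => by
    subst e
    rw [Cyc90.genPrime_fromSpecStalk]
  have hdim : ringKrullDim (Y.presheaf.stalk y') = 1 := by
    letI := (Y.presheaf.stalkSpecializes (Cyc90.fromSpecStalk_specializes pp)).hom.toAlgebra
    haveI := Cyc90.isLocalization_genPrime (Cyc90.fromSpecStalk_specializes pp)
    rw [IsLocalization.AtPrime.ringKrullDim_eq_height (Cyc90.genPrime (Cyc90.fromSpecStalk_specializes pp)).asIdeal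
      (Y.presheaf.stalk y'), hgen _ _ rfl, hp]
    rfl
  haveI := hfib y' hdim
  set F := f.fiber y'
  have hfibre : ∀ w : F, f (f.fiberι y' w) = y' := fun w => apply_fiberι f y' w
  have hlift : ∀ Q : Ideal (X.presheaf.stalk x), ∀ _ : Q.IsPrime,
      Q.comap (f.stalkMap x).hom = p → ∃ (w : F) (h : f.fiberι y' w ⤳ x),
        (Cyc90.genPrime h).asIdeal = Q := by
    intro Q hQ hQp
    let qq : PrimeSpectrum (X.presheaf.stalk x) := ⟨Q, hQ⟩
    have hz : f ((X.fromSpecStalk x).base qq) = y' := by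
      have h1 := comap_genPrime f (Cyc90.fromSpecStalk_specializes qq)
      rw [Cyc90.genPrime_fromSpecStalk] at h1
      refine (Cyc90.genPrime_eq_iff ((Cyc90.fromSpecStalk_specializes qq).map f.continuous)
        (Cyc90.fromSpecStalk_specializes pp)).1 (PrimeSpectrum.ext ?_)
      rw [Cyc90.genPrime_fromSpecStalk pp]
      exact h1.symm.trans hQp
    obtain ⟨w, hw⟩ : (X.fromSpecStalk x).base qq ∈ Set.range (f.fiberι y') := by
      rw [Scheme.Hom.range_fiberι]; exact hz
    have key : ∀ (z : X) (h : z ⤳ x), z = (X.fromSpecStalk x).base qq → (Cyc90.genPrime h).asIdeal = Q :=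
      fun z h e => by subst e; rw [Cyc90.genPrime_fromSpecStalk]
    exact ⟨w, hw ▸ Cyc90.fromSpecStalk_specializes qq, key _ _ hw⟩
  obtain ⟨Q₀, hQ₀⟩ := PrimeSpectrum.comap_surjective_of_faithfullyFlat (B := X.presheaf.stalk x) pp
  obtain ⟨w₀, hw₀, -⟩ := hlift Q₀.asIdeal Q₀.2 (congrArg PrimeSpectrum.asIdeal hQ₀)
  have hgw : ∀ w : F, f.fiberι y' (genericPoint F) ⤳ f.fiberι y' w := fun w =>
    ((genericPoint_spec F).specializes trivial).map (f.fiberι y').continuous
  set P := (Cyc90.genPrime ((hgw w₀).trans hw₀)).asIdeal with hP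
  suffices hPeq : p.map (f.stalkMap x).hom = P by rw [hPeq]; exact (Cyc90.genPrime _).2
  refine le_antisymm (Ideal.map_le_iff_le_comap.2 ?_) fun b hb => ?_
  · rw [hP, comap_genPrime, hgen _ _ (hfibre _)]
  by_contra hbI
  let I : Ideal (X.presheaf.stalk x) :=
    { carrier := {c : X.presheaf.stalk x | c * b ∈ p.map (f.stalkMap x).hom}
      zero_mem' := by simp
      add_mem' := fun {c d} hc hd => by
        simp only [Set.mem_setOf_eq] at hc hd ⊢
        rw [add_mul]; exact add_mem hc hd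
      smul_mem' := fun r c hc => by
        simp only [Set.mem_setOf_eq, smul_eq_mul] at hc ⊢
        rw [mul_assoc]; exact Ideal.mul_mem_left _ r hc }
  let M : Submonoid (X.presheaf.stalk x) := p.primeCompl.map (f.stalkMap x).hom
  have hdisj : Disjoint (I : Set (X.presheaf.stalk x)) (M : Set (X.presheaf.stalk x)) := by
    refine Set.disjoint_left.2 ?_
    rintro _ hc ⟨s, hs, rfl⟩
    exact hbI (Div89.DescUnit.mem_map_of_mul_mem (A := Y.presheaf.stalk (f x)) (I := p) (J := p) s
      (fun _ hz => Ideal.mul_mem_left _ _ hz)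
      (fun c hc => (Ideal.IsPrime.mem_or_mem inferInstance hc).resolve_left hs) hc)
  obtain ⟨Q, hQ, hIQ, hQM⟩ := Ideal.exists_le_prime_disjoint I M hdisj
  have hQp : Q.comap (f.stalkMap x).hom = p := by
    refine le_antisymm (fun s hs => by_contra fun hsp => ?_) fun s hs => ?_
    · exact Set.disjoint_left.1 hQM hs ⟨s, hsp, rfl⟩
    · exact hIQ (Ideal.mul_mem_right _ _ (Ideal.mem_map_of_mem _ hs))
  obtain ⟨w, hw, hwQ⟩ := hlift Q hQ hQp
  set z := f.fiberι y' w
  have hbz : (X.presheaf.stalkSpecializes hw).hom b ∈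
      RingHom.ker ((f.fiberι y').stalkMap w).hom := by
    rw [RingHom.mem_ker]
    have hinj : Function.Injective (F.presheaf.stalkSpecializes ((genericPoint_spec F).specializes trivial :
        genericPoint F ⤳ w)).hom := IsFractionRing.injective (F.presheaf.stalk w) F.functionField
    refine hinj ?_
    rw [map_zero]
    erw [← Scheme.Hom.stalkSpecializes_stalkMap_apply, TopCat.Presheaf.stalkSpecializes_comp_apply]
    haveI : IsLocalHom ((f.fiberι y').stalkMap (genericPoint F)).hom := inferInstance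
    by_contra h0
    have hu := IsLocalHom.map_nonunit _ (show IsUnit (((f.fiberι y').stalkMap (genericPoint F)).hom _) from
      (Ne.isUnit (G₀ := F.functionField) h0))
    exact hb hu
  rw [FlatMor68.FibreStalk.ker_fiberι_stalkMap] at hbz
  letI := (Y.presheaf.stalkSpecializes (hw.map f.continuous)).hom.toAlgebra
  have hmax : maximalIdeal (Y.presheaf.stalk (f z)) =
      p.map (Y.presheaf.stalkSpecializes (hw.map f.continuous)).hom := by
    haveI := Cyc90.isLocalization_genPrime (hw.map f.continuous)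
    rw [← IsLocalization.AtPrime.map_eq_maximalIdeal (Cyc90.genPrime (hw.map f.continuous)).asIdeal
      (Y.presheaf.stalk (f z)), hgen _ _ (hfibre w)]
    rfl
  rw [hmax, Ideal.map_map, ← CommRingCat.hom_comp, Scheme.Hom.stalkSpecializes_stalkMap f z x hw,
    CommRingCat.hom_comp, ← Ideal.map_map] at hbz
  letI := (X.presheaf.stalkSpecializes hw).hom.toAlgebra
  haveI := Cyc90.isLocalization_genPrime hw
  obtain ⟨t, ht, htb⟩ := (IsLocalization.algebraMap_mem_map_algebraMap_iff
    (Cyc90.genPrime hw).asIdeal.primeCompl (X.presheaf.stalk z) _ b).1 hbz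
  exact ht (hwQ.symm ▸ hIQ htb)

end Groth.Agent.LC15.PicDesc

end
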