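import Groth.Agent.LC15.PicDesc.FibSec
import Groth.Agent.CAlg4.ReducedCurve

/-!
Frames of an invertible module that are constant on the fibre over a maximal point.
-/

set_option autoImplicit false
set_option linter.style.haveILetI false
set_option linter.unusedSectionVars false
set_option backward.isDefEq.respectTransparency.types false

universe u

open CategoryTheory AlgebraicGeometry TopologicalSpace Opposite IsLocalRing
open scoped nonZeroDivisors

noncomputable section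

namespace Groth.Agent.LC15.PicDesc

open Var76.LineBundle Var76.ZeroScheme

variable {X Y : Scheme.{u}} [IsLocallyNoetherian Y] (f : X ⟶ Y) [Flat f]
  (hY : Pi1.IsNormalScheme Y) (hfib : ∀ y : Y, ringKrullDim (Y.presheaf.stalk y) = 1 → IsIntegral (f.fiber y))
  {η : Y} (hη : IsMaxPt η) {L : X.Modules} (hL : PicF.IsInvertible L)
  (i : (Scheme.Modules.pullback (f.fiberι η)).obj L ≅ Coh.structureModule (f.fiber η))

/-- The function of a section on the fibre. -/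
def gF (U : X.Opens) (m : Γ(L, U)) : Γ(f.fiber η, f.fiberι η ⁻¹ᵁ U) :=
  i.hom.app (f.fiberι η ⁻¹ᵁ U) (Amp73.pullS (f.fiberι η) L U m)

theorem gF_smul (U : X.Opens) (a : Γ(X, U)) (m : Γ(L, U)) :
    gF f i U (a • m) = (f.fiberι η).app U a * gF f i U m := by
  show i.hom.app _ _ = _
  rw [Amp73.pullS_smul, Scheme.Modules.Hom.app_smul]
  rfl

theorem gF_res {U V : X.Opens} (h : V ≤ U) (m : Γ(L, U)) :
    gF f i V (res L h m) = fres ((f.fiberι η).preimage_mono h) (gF f i U m) := by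
  show i.hom.app _ _ = _
  rw [← Amp73.res_pullS, Mero90.app_res]
  rfl

theorem gF_unit {U : X.Opens} {e : Γ(L, U)} (he : IsFrame L U e) : IsUnit (gF f i U e) := by
  let ι := f.fiberι η
  have h1 := (Amp73.isFrame_app_iff i.hom (Amp73.pullS ι L U e)).2 (Props58.PullTensor.isFrame_pullS ι he)
  obtain ⟨b, hb⟩ := (h1 (ι ⁻¹ᵁ U) le_rfl).2 ((1 : Γ(f.fiber η, ι ⁻¹ᵁ U)) : Γ(Coh.structureModule (f.fiber η), ι ⁻¹ᵁ U))
  refine IsUnit.of_mul_eq_one_right b ?_
  refine Eq.trans ?_ hb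
  show b * gF f i U e = b * fres le_rfl (gF f i U e)
  rw [Amp73.fres_self]

theorem app_fres_fiberι {U V : X.Opens} (h : V ≤ U) (a : Γ(X, U)) :
    (f.fiberι η).app V (fres h a) = fres ((f.fiberι η).preimage_mono h) ((f.fiberι η).app U a) :=
  ConcreteCategory.congr_hom ((f.fiberι η).naturality (homOfLE h).op) a

include hY hη hL in
theorem sec_ext {U : X.Opens} (hU : ∀ x ∈ U, η ⤳ f x) {m m' : Γ(L, U)} (h : gF f i U m = gF f i U m') :
    m = m' := by
  refine eq_of_locally L _ _ fun x hx => ?_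
  obtain ⟨W, hxW, e, he⟩ := Mero90.exists_frame' hL x
  refine ⟨W ⊓ U, inf_le_right, ⟨hxW, hx⟩, ?_⟩
  obtain ⟨a, ha⟩ := (he (W ⊓ U) inf_le_left).2 (res L inf_le_right m)
  obtain ⟨b, hb⟩ := (he (W ⊓ U) inf_le_left).2 (res L inf_le_right m')
  have ha' := congrArg (gF f i (W ⊓ U)) ha
  have hb' := congrArg (gF f i (W ⊓ U)) hb
  simp only [gF_smul, gF_res] at ha' hb'
  rw [h, ← hb'] at ha'
  have hab := ((gF_unit f i he).map _).mul_left_injective ha'
  rw [← sub_eq_zero, ← map_sub] at hab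
  rw [← ha, ← hb, sub_eq_zero.1 (sec_eq_zero f hY hη (fun y (hy : y ∈ W ⊓ U) => hU y hy.2) _ hab)]

/-- Near `x` there is a frame which is the constant `c` on the fibre. -/
def Good (x : X) (c : (Y.presheaf.stalk η)ˣ) : Prop :=
  ∃ (U : X.Opens) (e : Γ(L, U)), x ∈ U ∧ (∀ z ∈ U, η ⤳ f z) ∧ IsFrame L U e ∧
    gF f i U e = psi f η U c

variable {f i}

theorem Good.mono {x z : X} {c : (Y.presheaf.stalk η)ˣ} (h : Good f i x c) (hz : z ⤳ x) : Good f i z c := by
  obtain ⟨U, e, hx, hU, he, hg⟩ := h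
  exact ⟨U, e, hz.mem_open U.2 hx, hU, he, hg⟩

theorem Good.specializes {x : X} {c : (Y.presheaf.stalk η)ˣ} (h : Good f i x c) : η ⤳ f x := by
  obtain ⟨U, e, hx, hU, he, hg⟩ := h
  exact hU x hx

/-- `c' / c` lies in the local ring at `y`. -/
def Ratio (y : Y) (c c' : (Y.presheaf.stalk η)ˣ) : Prop :=
  ∃ (h : η ⤳ y) (r : Y.presheaf.stalk y), (Y.presheaf.stalkSpecializes h).hom r * c = c'

include hY hη in
theorem Good.ratio {x : X} {c c' : (Y.presheaf.stalk η)ˣ} (h : Good f i x c) (h' : Good f i x c') :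
    Ratio (f x) c c' := by
  have hs := h.specializes
  obtain ⟨U, e, hx, hU, he, hg⟩ := h
  obtain ⟨U', e', hx', -, he', hg'⟩ := h'
  haveI := (hY (f x)).1
  obtain ⟨b, d, hd, hbd⟩ := exists_frac hη hs ((c' : Y.presheaf.stalk η) * ↑c⁻¹)
  obtain ⟨W₁, hW₁, d₀, rfl⟩ := Y.presheaf.exists_germ_eq (x := f x) d
  obtain ⟨W₂, hW₂, b₀, rfl⟩ := Y.presheaf.exists_germ_eq (x := f x) b
  erw [TopCat.Presheaf.germ_stalkSpecializes_apply, TopCat.Presheaf.germ_stalkSpecializes_apply] at hbd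
  let U₃ : X.Opens := U ⊓ U' ⊓ f ⁻¹ᵁ (W₁ ⊓ W₂)
  have hx₃ : x ∈ U₃ := ⟨⟨hx, hx'⟩, hW₁, hW₂⟩
  obtain ⟨a, ha⟩ := (he U₃ (inf_le_left.trans inf_le_left)).2 (res L (inf_le_left.trans inf_le_right) e')
  have ha' := congrArg (gF f i U₃) ha
  simp only [gF_smul, gF_res, hg, hg', psi_res] at ha'
  have l₁ : U₃ ≤ f ⁻¹ᵁ W₁ := inf_le_right.trans (f.preimage_mono inf_le_left)
  have l₂ : U₃ ≤ f ⁻¹ᵁ W₂ := inf_le_right.trans (f.preimage_mono inf_le_right)
  have hz : a * (f.appLE W₁ U₃ l₁).hom d₀ - (f.appLE W₂ U₃ l₂).hom b₀ = 0 := by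
    refine sec_eq_zero f hY hη (fun y (hy : y ∈ U₃) => hU y hy.1.1) _ ?_
    rw [map_sub, map_mul, app_appLE f η (hs.mem_open W₁.2 hW₁), app_appLE f η (hs.mem_open W₂.2 hW₂), sub_eq_zero,
      ← hbd, map_mul, map_mul, ← ha']
    rw [mul_assoc ((f.fiberι η).app U₃ a), ← map_mul (psi f η U₃) (c : Y.presheaf.stalk η), Units.mul_inv, map_one, mul_one]
  have hz' := congrArg (X.presheaf.germ U₃ x hx₃).hom (sub_eq_zero.1 hz)
  rw [map_mul, germ_appLE, germ_appLE] at hz'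
  letI := (f.stalkMap x).hom.toAlgebra
  haveI : Module.Flat (Y.presheaf.stalk (f x)) (X.presheaf.stalk x) := Flat.stalkMap f x
  haveI : IsLocalHom (algebraMap (Y.presheaf.stalk (f x)) (X.presheaf.stalk x)) :=
    inferInstanceAs (IsLocalHom (f.stalkMap x).hom)
  haveI := Module.FaithfullyFlat.of_flat_of_isLocalHom (A := Y.presheaf.stalk (f x)) (B := X.presheaf.stalk x)
  have hmem : (Y.presheaf.germ W₂ (f x) hW₂).hom b₀ ∈
      Ideal.span {(Y.presheaf.germ W₁ (f x) hW₁).hom d₀} := by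
    rw [← Ideal.comap_map_eq_self_of_faithfullyFlat (B := X.presheaf.stalk x) (Ideal.span {_}),
      Ideal.mem_comap, Ideal.map_span, Set.image_singleton]
    exact Ideal.mem_span_singleton'.2 ⟨_, hz'⟩
  obtain ⟨r, hr⟩ := Ideal.mem_span_singleton'.1 hmem
  refine ⟨hs, r, ?_⟩
  have h1 := congrArg (Y.presheaf.stalkSpecializes hs).hom hr
  rw [map_mul] at h1
  erw [TopCat.Presheaf.germ_stalkSpecializes_apply, TopCat.Presheaf.germ_stalkSpecializes_apply, ← hbd] at h1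
  have hu : IsUnit ((Y.presheaf.germ W₁ η (hs.mem_open W₁.2 hW₁)).hom d₀) :=
    germ_isUnit_of_ne_zero hη hs hW₁ d₀ hd
  rw [hu.mul_left_injective h1, Units.inv_mul_cancel_right]

include hY hfib hη in
theorem Good.ratio_dim_one {x x' : X} {c c' : (Y.presheaf.stalk η)ˣ} (h : Good f i x c) (h' : Good f i x' c')
    (hxx : f x' = f x) (hd : ringKrullDim (Y.presheaf.stalk (f x)) = 1) : Ratio (f x) c c' := by
  haveI := hfib _ hd
  let F := f.fiber (f x)
  have hspec : ∀ x₁ : X, f x₁ = f x → f.fiberι (f x) (genericPoint F) ⤳ x₁ := fun x₁ e => by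
    obtain ⟨z, rfl⟩ : x₁ ∈ Set.range (f.fiberι (f x)) := by rw [Scheme.Hom.range_fiberι]; exact e
    exact ((genericPoint_spec F).specializes trivial).map (f.fiberι (f x)).continuous
  have := (h.mono (hspec x rfl)).ratio hY hη (h'.mono (hspec x' hxx))
  rwa [apply_fiberι] at this

include hY hfib hη in
theorem Good.ratio_fibre {x x' : X} {c c' : (Y.presheaf.stalk η)ˣ} (h : Good f i x c) (h' : Good f i x' c')
    (hxx : f x' = f x) : Ratio (f x) c c' := by
  have hs := h.specializes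
  haveI := (hY (f x)).1
  haveI := (hY (f x)).2
  obtain ⟨b, d, hd, hbd⟩ := exists_frac hη hs ((c' : Y.presheaf.stalk η) * ↑c⁻¹)
  obtain ⟨r, rfl⟩ : d ∣ b := by
    refine CAlg4.ReducedCurve.dvd_of_forall_height_one d b hd fun q _ hq _ => ?_
    let qq : PrimeSpectrum (Y.presheaf.stalk (f x)) := ⟨q, inferInstance⟩
    have hy' := Cyc90.fromSpecStalk_specializes qq
    have hgq : (Cyc90.genPrime hy').asIdeal = q := by rw [Cyc90.genPrime_fromSpecStalk]
    letI := (Y.presheaf.stalkSpecializes hy').hom.toAlgebra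
    haveI := Cyc90.isLocalization_genPrime hy'
    have hdim : ringKrullDim (Y.presheaf.stalk ((Y.fromSpecStalk (f x)).base qq)) = 1 := by
      rw [IsLocalization.AtPrime.ringKrullDim_eq_height (Cyc90.genPrime hy').asIdeal
        (Y.presheaf.stalk ((Y.fromSpecStalk (f x)).base qq)), hgq, hq]
      rfl
    obtain ⟨z, hzx, hz⟩ := AlgebraicGeometry.Flat.generalizingMap f hy'
    obtain ⟨z', hzx', hz'⟩ := AlgebraicGeometry.Flat.generalizingMap f
      (show (Y.fromSpecStalk (f x)).base qq ⤳ f x' from hxx.symm ▸ hy')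
    have key : ∀ y, f z = y → ringKrullDim (Y.presheaf.stalk y) = 1 → Ratio y c c' := by
      intro y e hy
      subst e
      exact (h.mono hzx).ratio_dim_one hY hfib hη (h'.mono hzx') (hz'.trans hz.symm) hy
    obtain ⟨hs', r, hr⟩ := key _ hz hdim
    obtain ⟨⟨a, s⟩, has⟩ := IsLocalization.surj (Cyc90.genPrime hy').asIdeal.primeCompl r
    have hcomp : ∀ g : Y.presheaf.stalk (f x), (Y.presheaf.stalkSpecializes hs').hom
        ((Y.presheaf.stalkSpecializes hy').hom g) = (Y.presheaf.stalkSpecializes hs).hom g := fun g =>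
      TopCat.Presheaf.stalkSpecializes_comp_apply Y.presheaf _ hy' g
    have e1 := congrArg (Y.presheaf.stalkSpecializes hs').hom has
    rw [map_mul] at e1
    change _ * (Y.presheaf.stalkSpecializes hs').hom ((Y.presheaf.stalkSpecializes hy').hom s.1) =
      (Y.presheaf.stalkSpecializes hs').hom ((Y.presheaf.stalkSpecializes hy').hom a) at e1
    rw [hcomp, hcomp] at e1
    have hrc : (Y.presheaf.stalkSpecializes hs').hom r = c' * ↑c⁻¹ := by
      rw [← hr, Units.mul_inv_cancel_right]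
    have e2 : a * d = s.1 * b := by
      refine toK_injective hη hs ?_
      rw [map_mul, map_mul, ← hbd, ← e1, hrc]
      ring
    refine ⟨IsLocalization.mk' (Localization.AtPrime q) a (⟨s.1, fun hm => s.2 (hgq.ge hm)⟩ : q.primeCompl), ?_⟩
    rw [IsLocalization.mul_mk'_eq_mk'_of_mul, IsLocalization.eq_mk'_iff_mul_eq]
    show algebraMap _ _ b * algebraMap _ _ s.1 = _
    rw [← map_mul, mul_comm b, ← e2, mul_comm a]
  refine ⟨hs, r, ?_⟩
  rw [map_mul, mul_comm ((Y.presheaf.stalkSpecializes hs).hom d)] at hbd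
  rw [← (isUnit_toK hη hs hd).mul_left_injective hbd, Units.inv_mul_cancel_right]

include hY hfib hη hL in
theorem exists_good [IsLocallyNoetherian X] (i : (Scheme.Modules.pullback (f.fiberι η)).obj L ≅
    Coh.structureModule (f.fiber η)) (x : X) (hx : η ⤳ f x) : ∃ c, Good f i x c := by
  obtain ⟨U₀, hxU₀, e₀, he₀⟩ := Mero90.exists_frame' hL x
  obtain ⟨V, hxV⟩ := Div89.exists_affine_mem (f x)
  haveI := (hY (f x)).1
  haveI := (hY (f x)).2
  obtain ⟨U, hUaff, hxU, hU⟩ := exists_isAffineOpen_mem_and_subset (X := X) (x := x)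
    (U := U₀ ⊓ f ⁻¹ᵁ V.1 ⊓ f ⁻¹ᵁ ⟨_, isOpen_gen hY hη⟩) ⟨⟨hxU₀, hxV⟩, hx⟩
  have hU₀ : U ≤ U₀ := fun z hz => (hU hz).1.1
  have hUV : U ≤ f ⁻¹ᵁ V.1 := fun z hz => (hU hz).1.2
  have hUη : ∀ z ∈ U, η ⤳ f z := fun z hz => (hU hz).2
  have hηV : η ∈ V.1 := hx.mem_open V.1.2 hxV
  have hgu := gF_unit f i (he₀.res hU₀)
  obtain ⟨v, hv⟩ := hgu.exists_right_inv
  obtain ⟨t, b, ht, hb⟩ := exists_lift f hY hη ⟨U, hUaff⟩ V hUV hηV (gF f i U (res L hU₀ e₀))
  obtain ⟨t', b', ht', hb'⟩ := exists_lift f hY hη ⟨U, hUaff⟩ V hUV hηV v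
  have hbb : b * b' = (f.appLE V.1 U hUV).hom (t * t') := by
    rw [← sub_eq_zero]
    refine sec_eq_zero f hY hη hUη _ ?_
    rw [map_sub, map_mul ((f.fiberι η).app U).hom b b', app_appLE f η hηV, sub_eq_zero, hb, hb', map_mul, map_mul,
      mul_mul_mul_comm, hv, mul_one]
  have hbx := congrArg (X.presheaf.germ U x hxU).hom hbb
  rw [map_mul, germ_appLE] at hbx
  letI := (f.stalkMap x).hom.toAlgebra
  haveI : Module.Flat (Y.presheaf.stalk (f x)) (X.presheaf.stalk x) := Flat.stalkMap f x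
  haveI : IsLocalHom (algebraMap (Y.presheaf.stalk (f x)) (X.presheaf.stalk x)) :=
    inferInstanceAs (IsLocalHom (f.stalkMap x).hom)
  haveI := Module.FaithfullyFlat.of_flat_of_isLocalHom (A := Y.presheaf.stalk (f x)) (B := X.presheaf.stalk x)
  have htne : (Y.presheaf.germ V.1 (f x) hxV).hom (t * t') ≠ 0 := fun h0 => by
    have h1 := congrArg (Y.presheaf.stalkSpecializes hx).hom h0
    rw [map_zero] at h1
    erw [TopCat.Presheaf.germ_stalkSpecializes_apply] at h1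
    have h2 := ht.mul ht'
    rw [← map_mul] at h2
    exact h2.ne_zero h1
  obtain ⟨c₁, hc₁, w, hw⟩ := Div89.exists_eq_algebraMap_mul_unit (A := Y.presheaf.stalk (f x))
    (fun p hp hp1 => haveI := hp; isPrime_map_stalk f hfib x p hp1) htne hbx
  obtain ⟨W₁, hW₁, a₁, rfl⟩ := Y.presheaf.exists_germ_eq (x := f x) c₁
  obtain ⟨U₂, hxU₂, u, hu⟩ := X.presheaf.exists_germ_eq (x := x) (w : X.presheaf.stalk x)
  have hxb : x ∈ X.basicOpen u := (X.mem_basicOpen u x hxU₂).2 (hu ▸ w.isUnit)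
  let U₃ : X.Opens := U ⊓ X.basicOpen u ⊓ f ⁻¹ᵁ W₁
  have hx₃ : x ∈ U₃ := ⟨⟨hxU, hxb⟩, hW₁⟩
  have l₁ : U₃ ≤ U := inf_le_left.trans inf_le_left
  have l₂ : U₃ ≤ U₂ := (inf_le_left.trans inf_le_right).trans (X.basicOpen_le u)
  have l₃ : U₃ ≤ f ⁻¹ᵁ W₁ := inf_le_right
  have heq : (X.presheaf.germ U₃ x hx₃).hom (fres l₁ b) =
      (X.presheaf.germ U₃ x hx₃).hom ((f.appLE W₁ U₃ l₃).hom a₁ * fres l₂ u) := by
    rw [map_mul, germ_appLE]
    erw [TopCat.Presheaf.germ_res_apply, TopCat.Presheaf.germ_res_apply, hw, hu]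
    rfl
  obtain ⟨U₄, hx₄, i₁, i₂, h₄⟩ := X.presheaf.germ_eq x (U := U₃) (V := U₃) hx₃ hx₃ _ _ heq
  have j : U₄ ≤ U₃ := i₁.le
  replace h₄ : fres j (fres l₁ b) = fres j ((f.appLE W₁ U₃ l₃).hom a₁ * fres l₂ u) := h₄
  have hu₄ : IsUnit (fres (j.trans l₂) u) := by
    have h := (show IsUnit (fres (X.basicOpen_le u) u) from X.toRingedSpace.isUnit_res_basicOpen u)
    have h2 := h.map (X.presheaf.map (homOfLE (j.trans (inf_le_left.trans inf_le_right) : U₄ ≤ X.basicOpen u)).op).hom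
    convert h2 using 1
    exact (fres_fres _ _ _).symm
  have hηW : η ∈ W₁ := hx.mem_open W₁.2 hW₁
  have hca : IsUnit ((Y.presheaf.germ W₁ η hηW).hom a₁) := germ_isUnit_of_ne_zero hη hx hW₁ a₁ hc₁
  refine ⟨hca.unit * ht.unit⁻¹, U₄, (↑hu₄.unit⁻¹ : Γ(X, U₄)) • res L (j.trans (l₁.trans hU₀)) e₀, hx₄,
    fun z hz => hUη z (l₁ (j hz)), (Amp73.isFrame_smul_iff (he₀.res _) _).2 hu₄.unit⁻¹.isUnit, ?_⟩
  have e2 : fres ((f.fiberι η).preimage_mono (j.trans l₁)) (gF f i U (res L hU₀ e₀)) =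
      gF f i U₄ (res L (j.trans (l₁.trans hU₀)) e₀) := (gF_res f i (j.trans l₁) _).symm.trans (congrArg _ (res_res L hU₀ (j.trans l₁) e₀))
  have e3 : (f.fiberι η).app U₄ (fres j ((f.appLE W₁ U₃ l₃).hom a₁)) =
      psi f η U₄ ((Y.presheaf.germ W₁ η hηW).hom a₁) := by
    rw [app_fres_fiberι, app_appLE f η hηW, psi_res]
  have e4 : (f.fiberι η).app U₄ (fres j (fres l₂ u)) = (f.fiberι η).app U₄ (fres (j.trans l₂) u) := by
    rw [fres_fres]
  have e5 : (f.fiberι η).app U₄ (fres (j.trans l₁) b) =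
      psi f η U₄ ((Y.presheaf.germ V.1 η hηV).hom t) * gF f i U₄ (res L (j.trans (l₁.trans hU₀)) e₀) := by
    rw [app_fres_fiberι, hb]
    exact (map_mul ((f.fiber η).presheaf.map _).hom _ _).trans (congrArg₂ (· * ·) (psi_res f η _ _) e2)
  have e6 : (f.fiberι η).app U₄ (fres j ((f.appLE W₁ U₃ l₃).hom a₁ * fres l₂ u)) =
      (f.fiberι η).app U₄ (fres j ((f.appLE W₁ U₃ l₃).hom a₁)) * (f.fiberι η).app U₄ (fres j (fres l₂ u)) :=
    (congrArg ((f.fiberι η).app U₄) (map_mul (X.presheaf.map (homOfLE j).op).hom _ _)).trans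
      (map_mul ((f.fiberι η).app U₄).hom _ _)
  have e1 := congrArg ((f.fiberι η).app U₄) h₄
  rw [fres_fres, e5, e6, e3, e4] at e1
  refine ((ht.map (psi f η U₄)).mul (hu₄.map ((f.fiberι η).app U₄).hom)).mul_right_injective ?_
  show psi f η U₄ _ * _ * _ = psi f η U₄ _ * _ * _
  rw [gF_smul, mul_assoc, ← mul_assoc ((f.fiberι η).app U₄ (fres (j.trans l₂) u)),
    ← map_mul ((f.fiberι η).app U₄).hom, IsUnit.mul_val_inv, map_one, one_mul, e1,
    Units.val_mul, map_mul, IsUnit.unit_spec]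
  rw [mul_comm (psi f η U₄ ((Y.presheaf.germ V.1 η hηV).hom t)), mul_assoc, ← mul_assoc (psi f η U₄ ((Y.presheaf.germ V.1 η hηV).hom t)),
    mul_comm (psi f η U₄ ((Y.presheaf.germ V.1 η hηV).hom t)), mul_assoc (psi f η U₄ ((Y.presheaf.germ W₁ η hηW).hom a₁)),
    ← map_mul (psi f η U₄), IsUnit.mul_val_inv, map_one, mul_one, mul_comm]

include hY hfib hη hL in
theorem Good.transfer [IsLocallyNoetherian X] {x x' : X} {c : (Y.presheaf.stalk η)ˣ} (h : Good f i x c)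
    (hxx : f x' = f x) : Good f i x' c := by
  have hs := h.specializes
  haveI := (hY (f x')).1
  obtain ⟨c', h'⟩ := exists_good hY hfib hη hL i x' (hxx ▸ hs)
  obtain ⟨hs₁, r, hr⟩ := h'.ratio_fibre hY hfib hη h hxx.symm
  obtain ⟨hs₂, r', hr'⟩ : Ratio (f x') c c' := by
    have := h.ratio_fibre hY hfib hη h' hxx
    rwa [← hxx] at this
  have hrr : r' * r = 1 := by
    refine toK_injective hη hs₁ ?_
    rw [map_mul, map_one]
    refine (Units.mul_left_inj c').1 ?_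
    rw [mul_assoc, hr, one_mul]
    exact hr'
  obtain ⟨W₀, hxW₀, r₀, rfl⟩ := Y.presheaf.exists_germ_eq (x := f x') r
  have hru : IsUnit ((Y.presheaf.germ W₀ (f x') hxW₀).hom r₀) :=
    IsUnit.of_mul_eq_one r' (by rw [mul_comm, hrr])
  obtain ⟨U, e, hx, hU, he, hg⟩ := h'
  let W : Y.Opens := Y.basicOpen r₀
  let U' : X.Opens := U ⊓ f ⁻¹ᵁ W
  have hunit : IsUnit ((f.appLE W U' inf_le_right).hom (fres (Y.basicOpen_le r₀) r₀)) :=
    (show IsUnit (fres (Y.basicOpen_le r₀) r₀) from Y.toRingedSpace.isUnit_res_basicOpen r₀).map _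
  refine ⟨U', (f.appLE W U' inf_le_right).hom (fres (Y.basicOpen_le r₀) r₀) • res L inf_le_left e,
    ⟨hx, (Y.mem_basicOpen r₀ (f x') hxW₀).2 hru⟩, fun z hz => hU z hz.1,
    (Amp73.isFrame_smul_iff (he.res _) _).2 hunit, ?_⟩
  rw [gF_smul, gF_res, hg, psi_res, app_appLE f η (hs₁.mem_open W.2 ((Y.mem_basicOpen r₀ (f x') hxW₀).2 hru)),
    ← map_mul, ← hr]
  congr 2
  erw [TopCat.Presheaf.germ_res_apply, TopCat.Presheaf.germ_stalkSpecializes_apply]

end Groth.Agent.LC15.PicDesc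

end
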