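import Groth.Agent.LC15.PicDesc.Glue
import Groth.Agent.Div89.Basic
import Groth.Agent.Cyc90.Gen
import Groth.Agent.FlatMor68.FibreStalk
import Groth.Prelude.Def_Pi1
import Mathlib.AlgebraicGeometry.Fiber
import Mathlib.AlgebraicGeometry.SpreadingOut

/-!
Functions on the fibre over a maximal point of a normal locally Noetherian base.
-/

set_option autoImplicit false
set_option linter.style.haveILetI false
set_option linter.unusedSectionVars false
set_option backward.isDefEq.respectTransparency.types false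

universe u

open CategoryTheory AlgebraicGeometry TopologicalSpace Opposite IsLocalRing
open scoped nonZeroDivisors

noncomputable section

namespace Groth.Agent.LC15.PicDesc

open Var76.LineBundle Var76.ZeroScheme

variable {X Y : Scheme.{u}}

/-- A maximal point. -/
def IsMaxPt (η : Y) : Prop := ∀ z : Y, z ⤳ η → z = η

theorem germ_appLE (f : X ⟶ Y) {V : Y.Opens} {U : X.Opens} (h : U ≤ f ⁻¹ᵁ V) (x : X) (hx : x ∈ U)
    (s : Γ(Y, V)) : (X.presheaf.germ U x hx).hom ((f.appLE V U h).hom s) =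
      (f.stalkMap x).hom ((Y.presheaf.germ V (f x) (h hx)).hom s) := by
  erw [Scheme.Hom.germ_stalkMap_apply]
  exact X.presheaf.germ_res_apply (homOfLE h) x hx (f.app V s)

theorem comap_genPrime (f : X ⟶ Y) {z x : X} (h : z ⤳ x) :
    (Cyc90.genPrime h).asIdeal.comap (f.stalkMap x).hom =
      (Cyc90.genPrime (h.map f.continuous)).asIdeal := by
  show Ideal.comap (f.stalkMap x).hom (Ideal.comap (X.presheaf.stalkSpecializes h).hom (maximalIdeal _)) =
    Ideal.comap (Y.presheaf.stalkSpecializes (h.map f.continuous)).hom (maximalIdeal _)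
  rw [Ideal.comap_comap, ← CommRingCat.hom_comp, ← Scheme.Hom.stalkSpecializes_stalkMap f z x h,
    CommRingCat.hom_comp, ← Ideal.comap_comap]
  have : (maximalIdeal (X.presheaf.stalk z)).comap (f.stalkMap z).hom = maximalIdeal _ :=
    ((IsLocalRing.local_hom_TFAE (f.stalkMap z).hom).out 0 4).mp
      (show IsLocalHom (f.stalkMap z).hom from inferInstance)
  rw [this]

section Base

variable {η : Y} (hη : IsMaxPt η)
include hη

theorem genPrime_eq_bot {y : Y} [IsDomain (Y.presheaf.stalk y)] (h : η ⤳ y) :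
    (Cyc90.genPrime h).asIdeal = ⊥ := by
  let p : PrimeSpectrum (Y.presheaf.stalk y) := ⟨⊥, Ideal.isPrime_bot⟩
  have h1 := Cyc90.fromSpecStalk_specializes p
  have h2 : (Y.fromSpecStalk y).base p ⤳ η := by
    rw [← Cyc90.genPrime_le_iff h1 h, Cyc90.genPrime_fromSpecStalk]
    exact bot_le
  rw [(Cyc90.genPrime_eq_iff h h1).2 (hη _ h2).symm, Cyc90.genPrime_fromSpecStalk]

theorem isField_stalk [IsDomain (Y.presheaf.stalk η)] : IsField (Y.presheaf.stalk η) := by
  rw [isField_iff_maximalIdeal_eq]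
  have := genPrime_eq_bot hη (specializes_refl η)
  rwa [Cyc90.genPrime_refl] at this

theorem toK_injective {y : Y} [IsDomain (Y.presheaf.stalk y)] (h : η ⤳ y) :
    Function.Injective (Y.presheaf.stalkSpecializes h).hom := by
  letI := (Y.presheaf.stalkSpecializes h).hom.toAlgebra
  haveI := Cyc90.isLocalization_genPrime h
  refine IsLocalization.injective (Y.presheaf.stalk η) (M := (Cyc90.genPrime h).asIdeal.primeCompl) fun a ha => ?_
  refine mem_nonZeroDivisors_of_ne_zero fun h0 => ha ?_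
  rw [h0]
  exact zero_mem _

theorem isUnit_toK {y : Y} [IsDomain (Y.presheaf.stalk y)] (h : η ⤳ y) {a : Y.presheaf.stalk y} (ha : a ≠ 0) :
    IsUnit ((Y.presheaf.stalkSpecializes h).hom a) := by
  letI := (Y.presheaf.stalkSpecializes h).hom.toAlgebra
  haveI := Cyc90.isLocalization_genPrime h
  refine IsLocalization.map_units (Y.presheaf.stalk η) (⟨a, fun hmem => ha ?_⟩ : (Cyc90.genPrime h).asIdeal.primeCompl)
  rwa [genPrime_eq_bot hη h, SetLike.mem_coe, Ideal.mem_bot] at hmem

theorem exists_frac {y : Y} [IsDomain (Y.presheaf.stalk y)] (h : η ⤳ y) (c : Y.presheaf.stalk η) :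
    ∃ b d : Y.presheaf.stalk y, d ≠ 0 ∧
      c * (Y.presheaf.stalkSpecializes h).hom d = (Y.presheaf.stalkSpecializes h).hom b := by
  letI := (Y.presheaf.stalkSpecializes h).hom.toAlgebra
  haveI := Cyc90.isLocalization_genPrime h
  obtain ⟨⟨b, d⟩, hbd⟩ := IsLocalization.surj (Cyc90.genPrime h).asIdeal.primeCompl c
  exact ⟨b, d.1, fun h0 => d.2 (h0 ▸ zero_mem _), hbd⟩

theorem germ_isUnit_of_ne_zero {y : Y} [IsDomain (Y.presheaf.stalk y)] (h : η ⤳ y) {V : Y.Opens} (hy : y ∈ V)
    (t : Γ(Y, V)) (ht : (Y.presheaf.germ V y hy).hom t ≠ 0) :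
    IsUnit ((Y.presheaf.germ V η (h.mem_open V.2 hy)).hom t) := by
  have := isUnit_toK hη h ht
  erw [TopCat.Presheaf.germ_stalkSpecializes_apply] at this
  exact this

theorem eq_of_specializes {y : Y} [IsDomain (Y.presheaf.stalk y)] {η' : Y} (hη' : IsMaxPt η') (h : η ⤳ y)
    (h' : η' ⤳ y) : η = η' := by
  rw [← Cyc90.genPrime_eq_iff h h']
  exact PrimeSpectrum.ext ((genPrime_eq_bot hη h).trans (genPrime_eq_bot hη' h').symm)

theorem eq_of_specializes_map (f : X ⟶ Y) {z x : X} (hz : z ⤳ x) [IsDomain (Y.presheaf.stalk (f x))] (h : η ⤳ f x)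
    (hQ : (Cyc90.genPrime hz).asIdeal.comap (f.stalkMap x).hom = ⊥) : f z = η := by
  refine (Cyc90.genPrime_eq_iff (hz.map f.continuous) h).1 (PrimeSpectrum.ext ?_)
  rw [← comap_genPrime f hz, hQ, genPrime_eq_bot hη h]

end Base

theorem exists_maxPt (y : Y) [IsDomain (Y.presheaf.stalk y)] : ∃ η : Y, IsMaxPt η ∧ η ⤳ y := by
  let p : PrimeSpectrum (Y.presheaf.stalk y) := ⟨⊥, Ideal.isPrime_bot⟩
  have h := Cyc90.fromSpecStalk_specializes p
  refine ⟨_, fun z hz => ?_, h⟩
  rw [← Cyc90.genPrime_eq_iff (hz.trans h) h, Cyc90.genPrime_fromSpecStalk]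
  refine PrimeSpectrum.ext (le_bot_iff.1 ?_)
  have := (Cyc90.genPrime_le_iff (hz.trans h) h).2 hz
  rwa [Cyc90.genPrime_fromSpecStalk] at this

theorem isOpen_gen [IsLocallyNoetherian Y] (hY : Pi1.IsNormalScheme Y) {η : Y} (hη : IsMaxPt η) :
    IsOpen {y : Y | η ⤳ y} := by
  refine isOpen_iff_forall_mem_open.2 fun y (hy : η ⤳ y) => ?_
  haveI := (hY y).1
  obtain ⟨W, hyW, hW, hinj⟩ := Y.exists_germ_injective y
  haveI : IsDomain Γ(Y, W) := Function.Injective.isDomain _ hinj
  refine ⟨W, fun z hz => ?_, W.2, hyW⟩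
  obtain ⟨z₀, hz₀, hp⟩ := Div89.exists_point ⟨W, hW⟩ (⊥ : Ideal Γ(Y, W))
  have hspec : ∀ w (hw : w ∈ W), z₀ ⤳ w := fun w hw =>
    (Div89.specializes_iff_primeAt_le ⟨W, hW⟩ hw hz₀).2 (hp ▸ bot_le)
  rw [← hη _ (hspec η (hy.mem_open W.2 hyW))]
  exact hspec z hz

section Fibre

variable (f : X ⟶ Y) (η : Y)

theorem mem_fiber_preimage {U : X.Opens} {w : f.fiber η} (hw : w ∈ f.fiberι η ⁻¹ᵁ U) : f.fiberι η w ∈ U := hw

theorem apply_fiberι (w : f.fiber η) : f (f.fiberι η w) = η := by
  have := Set.mem_range_self (f := f.fiberι η) w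
  rwa [Scheme.Hom.range_fiberι] at this

/-- Constants on the fibre. -/
def psi (U : X.Opens) : Y.presheaf.stalk η →+* Γ(f.fiber η, f.fiberι η ⁻¹ᵁ U) :=
  ((f.fiber η).presheaf.map (homOfLE (le_top (a := f.fiberι η ⁻¹ᵁ U))).op).hom.comp
    (((f.fiberToSpecResidueField η).appTop).hom.comp
      ((Scheme.ΓSpecIso (Y.residueField η)).inv.hom.comp (Y.residue η).hom))

theorem psi_res {U U' : X.Opens} (h : f.fiberι η ⁻¹ᵁ U' ≤ f.fiberι η ⁻¹ᵁ U) (c : Y.presheaf.stalk η) :
    fres h (psi f η U c) = psi f η U' c :=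
  fres_fres (le_top) h _

theorem app_appLE {W : Y.Opens} (hW : η ∈ W) {U : X.Opens} (h : U ≤ f ⁻¹ᵁ W) (a : Γ(Y, W)) :
    (f.fiberι η).app U ((f.appLE W U h).hom a) = psi f η U ((Y.presheaf.germ W η hW).hom a) := by
  refine TopCat.Presheaf.section_ext (f.fiber η).sheaf _ _ _ fun w hw => ?_
  show ((f.fiber η).presheaf.germ _ w hw).hom _ = ((f.fiber η).presheaf.germ _ w hw).hom _
  have hpt : Y.fromSpecResidueField η (f.fiberToSpecResidueField η w) = η := Scheme.fromSpecResidueField_apply _ _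
  -- left side: the composite through `X`
  refine ((Scheme.Hom.germ_stalkMap_apply (f.fiberι η) U w hw _).symm.trans
    (congrArg _ (germ_appLE f h _ hw a))).trans ?_
  have hcond : f.fiberι η ≫ f = f.fiberToSpecResidueField η ≫ Y.fromSpecResidueField η :=
    Scheme.Hom.fiber_fac f η
  have hl : ((f.fiberι η ≫ f).stalkMap w).hom
      ((Y.presheaf.germ W ((f.fiberι η ≫ f) w) (h hw)).hom a) =
      ((f.fiberToSpecResidueField η ≫ Y.fromSpecResidueField η).stalkMap w).hom
        ((Y.presheaf.germ W ((f.fiberToSpecResidueField η ≫ Y.fromSpecResidueField η) w)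
          (hcond ▸ h hw)).hom a) := by
    rw [Scheme.Hom.stalkMap_congr_hom (f.fiberι η ≫ f) _ hcond w]
    show ((f.fiberToSpecResidueField η ≫ Y.fromSpecResidueField η).stalkMap w).hom _ = _
    refine congrArg _ ?_
    show ((Y.presheaf.germ W _ _) ≫ (Y.presheaf.stalkCongr _).hom).hom a = _
    rw [TopCat.Presheaf.stalkCongr_hom, TopCat.Presheaf.germ_stalkSpecializes]
  rw [Scheme.Hom.stalkMap_comp, Scheme.Hom.stalkMap_comp] at hl
  refine hl.trans ?_
  show ((f.fiberToSpecResidueField η).stalkMap w).hom (((Y.fromSpecResidueField η).stalkMap _).hom _) = _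
  have hr : ((Y.fromSpecResidueField η).stalkMap (f.fiberToSpecResidueField η w)).hom
      ((Y.presheaf.germ W (Y.fromSpecResidueField η (f.fiberToSpecResidueField η w)) (hpt.symm ▸ hW)).hom a) =
      ((Spec (Y.residueField η)).presheaf.germ ⊤ (f.fiberToSpecResidueField η w) trivial).hom
        ((Scheme.ΓSpecIso (Y.residueField η)).inv.hom ((Y.residue η).hom ((Y.presheaf.germ W η hW).hom a))) := by
    erw [Scheme.Hom.germ_stalkMap_apply]
    show _ = ((Spec (Y.residueField η)).presheaf.germ ⊤ _ trivial).hom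
      (((Y.residue η) ≫ (Scheme.ΓSpecIso (Y.residueField η)).inv).hom ((Y.presheaf.germ W η hW).hom a))
    rw [Scheme.ΓSpecIso_inv_naturality]
    change ((Spec (Y.residueField η)).presheaf.germ _ _ _).hom
      ((Spec.map (Y.residue η) ≫ Y.fromSpecStalk η).app W a) = _
    rw [Scheme.Hom.comp_app, Scheme.fromSpecStalk_app hW]
    simp only [Category.assoc, CommRingCat.comp_apply]
    erw [← ConcreteCategory.comp_apply (g := (Spec.map (Y.residue η)).app (Y.fromSpecStalk η ⁻¹ᵁ W)),
      (Spec.map (Y.residue η)).naturality]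
    exact (Spec (Y.residueField η)).presheaf.germ_res_apply _ _ _ _
  refine (congrArg ((f.fiberToSpecResidueField η).stalkMap w).hom hr).trans ?_
  erw [Scheme.Hom.germ_stalkMap_apply]
  exact ((f.fiber η).presheaf.germ_res_apply (homOfLE le_top) w hw _).symm

end Fibre

end Groth.Agent.LC15.PicDesc

end
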