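import Groth.Agent.Amp73.Gen
import Groth.Agent.Props58.PullTensor
import Groth.Agent.SubMod72.ToModules
import Mathlib.AlgebraicGeometry.Morphisms.Flat
import Mathlib.RingTheory.Flat.FaithfullyFlat.Algebra

/-!
An invertible module upstairs with frames changing by functions from downstairs comes from downstairs.
-/

set_option autoImplicit false
set_option linter.style.haveILetI false
set_option linter.unusedSectionVars false
set_option backward.isDefEq.respectTransparency.types false

universe u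

open CategoryTheory AlgebraicGeometry TopologicalSpace Opposite

noncomputable section

namespace Groth.Agent.LC15.PicDesc

open Var76.LineBundle Var76.ZeroScheme

variable {X Y : Scheme.{u}} (f : X ⟶ Y)

theorem app_fres {W W' : Y.Opens} (h : W' ≤ W) (a : Γ(Y, W)) :
    f.app W' (fres h a) = X.presheaf.map (homOfLE (f.preimage_mono h)).op (f.app W a) :=
  ConcreteCategory.congr_hom (f.naturality (homOfLE h).op) a

theorem stalkMap_injective [Flat f] (x : X) : Function.Injective (f.stalkMap x).hom := by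
  letI := (f.stalkMap x).hom.toAlgebra
  haveI : Module.Flat (Y.presheaf.stalk (f x)) (X.presheaf.stalk x) := Flat.stalkMap f x
  haveI : IsLocalHom (algebraMap (Y.presheaf.stalk (f x)) (X.presheaf.stalk x)) :=
    inferInstanceAs (IsLocalHom (f.stalkMap x).hom)
  haveI := Module.FaithfullyFlat.of_flat_of_isLocalHom (A := Y.presheaf.stalk (f x)) (B := X.presheaf.stalk x)
  exact FaithfulSMul.algebraMap_injective (Y.presheaf.stalk (f x)) (X.presheaf.stalk x)

theorem app_injective [Flat f] [Surjective f] (W : Y.Opens) : Function.Injective (f.app W) := by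
  intro a b hab
  refine TopCat.Presheaf.section_ext Y.sheaf W _ _ fun y hy => ?_
  obtain ⟨x, rfl⟩ := f.surjective y
  refine stalkMap_injective f x ?_
  show (f.stalkMap x).hom ((Y.presheaf.germ W (f x) hy).hom a) =
    (f.stalkMap x).hom ((Y.presheaf.germ W (f x) hy).hom b)
  erw [Scheme.Hom.germ_stalkMap_apply, Scheme.Hom.germ_stalkMap_apply]
  exact congrArg _ hab

theorem exists_pullback_of_frames [Flat f] [Surjective f] {L : X.Modules} {C : Type*}
    (V : C → Y.Opens) (hcov : ∀ y : Y, ∃ c, y ∈ V c) (τ : ∀ c, Γ(L, f ⁻¹ᵁ V c))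
    (hτf : ∀ c, IsFrame L (f ⁻¹ᵁ V c) (τ c))
    (htrans : ∀ c c' (y : Y), y ∈ V c → y ∈ V c' → ∃ (W : Y.Opens) (h : W ≤ V c) (h' : W ≤ V c')
      (a : Γ(Y, W)), y ∈ W ∧ res L (f.preimage_mono h') (τ c') = f.app W a • res L (f.preimage_mono h) (τ c)) :
    ∃ N : Y.Modules, PicF.IsInvertible N ∧ Nonempty ((Scheme.Modules.pullback f).obj N ≅ L) := by
  let Q : SubMod72.Sub ((Scheme.Modules.pushforward f).obj L) :=
    { carrier := fun W =>
        { carrier := {t : Γ((Scheme.Modules.pushforward f).obj L, W) | ∀ p ∈ W, ∃ (c : C) (W' : Y.Opens)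
            (h : W' ≤ W) (hV : W' ≤ V c) (a : Γ(Y, W')), p ∈ W' ∧
            res L (f.preimage_mono h) (t : Γ(L, f ⁻¹ᵁ W)) = f.app W' a • res L (f.preimage_mono hV) (τ c)}
          zero_mem' := fun p hp => by
            obtain ⟨c, hc⟩ := hcov p
            refine ⟨c, W ⊓ V c, inf_le_left, inf_le_right, 0, ⟨hp, hc⟩, ?_⟩
            rw [map_zero, zero_smul]
            exact map_zero _
          add_mem' := by
            rintro s t hs ht p hp
            obtain ⟨c, W₁, h₁, hV₁, a, hp₁, e₁⟩ := hs p hp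
            obtain ⟨d, W₂, h₂, hV₂, b, hp₂, e₂⟩ := ht p hp
            obtain ⟨W₃, h₃, h₃', u, hp₃, e₃⟩ := htrans c d p (hV₁ hp₁) (hV₂ hp₂)
            let W' := W₁ ⊓ W₂ ⊓ W₃
            have i₁ : W' ≤ W₁ := inf_le_left.trans inf_le_left
            have i₂ : W' ≤ W₂ := inf_le_left.trans inf_le_right
            have i₃ : W' ≤ W₃ := inf_le_right
            refine ⟨c, W', i₁.trans h₁, i₁.trans hV₁, fres i₁ a + fres i₂ b * fres i₃ u, ⟨⟨hp₁, hp₂⟩, hp₃⟩, ?_⟩
            have k₁ := congrArg (res L (f.preimage_mono i₁)) e₁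
            have k₂ := congrArg (res L (f.preimage_mono i₂)) e₂
            have k₃ := congrArg (res L (f.preimage_mono i₃)) e₃
            simp only [res_res, res_smul] at k₁ k₂ k₃
            rw [← app_fres f i₁] at k₁
            rw [← app_fres f i₂] at k₂
            rw [← app_fres f i₃] at k₃
            rw [map_add, map_mul, add_smul, mul_smul, ← k₃, ← k₂, ← k₁]
            exact Amp73.res_add L _ _ _
          smul_mem' := by
            intro r t ht p hp
            obtain ⟨c, W', h, hV, a, hp', e⟩ := ht p hp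
            refine ⟨c, W', h, hV, fres h r * a, hp', ?_⟩
            show res L _ (HSMul.hSMul (α := Γ(X, f ⁻¹ᵁ W)) (β := Γ(L, f ⁻¹ᵁ W)) (f.app W r) t) = _
            rw [res_smul, e, map_mul, mul_smul, ← app_fres f h] }
      res_mem := by
        intro W₁ W h t ht p hp
        obtain ⟨c, W', h', hV, a, hp', e⟩ := ht p (h hp)
        refine ⟨c, W' ⊓ W₁, inf_le_right, inf_le_left.trans hV, fres inf_le_left a, ⟨hp', hp⟩, ?_⟩
        have k := congrArg (res L (f.preimage_mono (inf_le_left : W' ⊓ W₁ ≤ W'))) e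
        rw [res_res, res_smul, res_res, ← app_fres f (inf_le_left : W' ⊓ W₁ ≤ W')] at k
        show res L _ (res L (f.preimage_mono h) _) = _
        rw [res_res]
        exact k
      local_mem := by
        intro W t ht p hp
        obtain ⟨W₁, h₁, hp₁, ht₁⟩ := ht p hp
        obtain ⟨c, W', h, hV, a, hp', e⟩ := ht₁ p hp₁
        refine ⟨c, W', h.trans h₁, hV, a, hp', ?_⟩
        have e' : res L _ (res L (f.preimage_mono h₁) (t : Γ(L, f ⁻¹ᵁ W))) = _ := e
        rw [res_res] at e'
        exact e' }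
  let N := SubMod72.toMod Q
  have hmem : ∀ c, ((τ c : Γ(L, f ⁻¹ᵁ V c)) : Γ((Scheme.Modules.pushforward f).obj L, V c)) ∈ Q.carrier (V c) :=
    fun c p hp => ⟨c, V c, le_rfl, le_rfl, 1, hp, by rw [map_one, one_smul]⟩
  let n : ∀ c, Γ(N, V c) := fun c => (⟨_, hmem c⟩ : Q.carrier (V c))
  have hn : ∀ c, IsFrame N (V c) (n c) := by
    intro c W hW
    have hval : ∀ a : Γ(Y, W), ((a • res N hW (n c) : Γ(N, W)) : Q.carrier W).1 =
        (f.app W a • res L (f.preimage_mono hW) (τ c) : Γ(L, f ⁻¹ᵁ W)) := fun a => rfl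
    refine ⟨fun a b hab => ?_, fun t => ?_⟩
    · have h1 : f.app W a • res L (f.preimage_mono hW) (τ c) =
          f.app W b • res L (f.preimage_mono hW) (τ c) :=
        (hval a).symm.trans ((congrArg (fun s : Γ(N, W) => ((s : Q.carrier W)).1) hab).trans (hval b))
      exact app_injective f W (((hτf c).res (f.preimage_mono hW) _ le_rfl).1 (a₁ := f.app W a) (a₂ := f.app W b)
        (by show _ • res L _ (res L _ _) = _ • res L _ (res L _ _); rw [res_res]; exact h1))
    · have htQ : ∀ p ∈ W, ∃ (W' : Y.Opens) (h : W' ≤ W) (a : Γ(Y, W')), p ∈ W' ∧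
          res L (f.preimage_mono h) ((t : Q.carrier W).1 : Γ(L, f ⁻¹ᵁ W)) =
            f.app W' a • res L (f.preimage_mono (h.trans hW)) (τ c) := by
        intro p hp
        obtain ⟨d, W₁, h₁, hV₁, a, hp₁, e₁⟩ := (t : Q.carrier W).2 p hp
        obtain ⟨W₂, h₂, h₂', u, hp₂, e₂⟩ := htrans c d p (hW hp) (hV₁ hp₁)
        refine ⟨W₁ ⊓ W₂, inf_le_left.trans h₁, fres inf_le_left a * fres inf_le_right u, ⟨hp₁, hp₂⟩, ?_⟩
        have k₁ := congrArg (res L (f.preimage_mono (inf_le_left : W₁ ⊓ W₂ ≤ W₁))) e₁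
        have k₂ := congrArg (res L (f.preimage_mono (inf_le_right : W₁ ⊓ W₂ ≤ W₂))) e₂
        simp only [res_res, res_smul] at k₁ k₂
        rw [← app_fres f (inf_le_left : W₁ ⊓ W₂ ≤ W₁)] at k₁
        rw [← app_fres f (inf_le_right : W₁ ⊓ W₂ ≤ W₂)] at k₂
        rw [map_mul, mul_smul, ← k₂]
        exact k₁
      choose W' hW' a hpW' ha using htQ
      obtain ⟨b, hb, -⟩ := Y.sheaf.existsUnique_gluing' (fun q : W => W' q.1 q.2) W
        (fun q => homOfLE (hW' q.1 q.2)) (fun q hq => Opens.mem_iSup.2 ⟨⟨q, hq⟩, hpW' q hq⟩)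
        (fun q => a q.1 q.2) (fun q r => by
          refine app_injective f _ ?_
          refine ((hτf c).res (f.preimage_mono ((inf_le_left.trans (hW' q.1 q.2)).trans hW)) _ le_rfl).1 ?_
          show _ • res L _ (res L _ _) = _ • res L _ (res L _ _)
          rw [res_res]
          have k₁ := congrArg (res L (f.preimage_mono (inf_le_left : W' q.1 q.2 ⊓ W' r.1 r.2 ≤ W' q.1 q.2))) (ha q.1 q.2)
          have k₂ := congrArg (res L (f.preimage_mono (inf_le_right : W' q.1 q.2 ⊓ W' r.1 r.2 ≤ W' r.1 r.2))) (ha r.1 r.2)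
          simp only [res_res, res_smul] at k₁ k₂
          rw [← app_fres f (inf_le_left : W' q.1 q.2 ⊓ W' r.1 r.2 ≤ W' q.1 q.2)] at k₁
          rw [← app_fres f (inf_le_right : W' q.1 q.2 ⊓ W' r.1 r.2 ≤ W' r.1 r.2)] at k₂
          exact k₁.symm.trans k₂)
      refine ⟨b, Subtype.ext ?_⟩
      refine (hval b).trans ?_
      refine eq_of_locally L _ _ fun x hx => ?_
      refine ⟨f ⁻¹ᵁ W' (f x) hx, f.preimage_mono (hW' _ hx), hpW' _ hx, ?_⟩
      rw [res_smul, res_res, ← app_fres f (hW' _ hx), ha]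
      congr 2
      exact hb ⟨f x, hx⟩
  refine ⟨N, Mero90.isInvertible_of_frames fun y => ?_, ?_⟩
  · obtain ⟨c, hc⟩ := hcov y
    exact ⟨V c, hc, n c, hn c⟩
  let ψ := ((Scheme.Modules.pullbackPushforwardAdjunction f).homEquiv N L).symm (SubMod72.toModι Q)
  have hψ : ∀ c, ψ.app (f ⁻¹ᵁ V c) (Amp73.pullS f N (V c) (n c)) = τ c := fun c => by
    have h : (Scheme.Modules.pullbackPushforwardAdjunction f).homEquiv N L ψ = SubMod72.toModι Q :=
      Equiv.apply_symm_apply _ _
    rw [Adjunction.homEquiv_unit] at h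
    exact ConcreteCategory.congr_hom (congrArg (fun F => Scheme.Modules.Hom.app F (V c)) h) (n c)
  have : IsIso ψ := Amp73.isIso_of_frames ψ fun x => by
    obtain ⟨c, hc⟩ := hcov (f x)
    refine ⟨f ⁻¹ᵁ V c, _, hc, Props58.PullTensor.isFrame_pullS f (hn c), ?_⟩
    rw [hψ]
    exact hτf c
  exact ⟨asIso ψ⟩

end Groth.Agent.LC15.PicDesc

end
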