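import Groth.Agent.LC15.PicDesc.Frames
import Mathlib.AlgebraicGeometry.Morphisms.QuasiCompact

/-!
Invertible modules trivial on the generic fibres come from the normal base.
-/

set_option autoImplicit false
set_option linter.style.haveILetI false
set_option linter.unusedSectionVars false
set_option backward.isDefEq.respectTransparency.types false

universe u

open CategoryTheory AlgebraicGeometry TopologicalSpace Opposite IsLocalRing
open scoped nonZeroDivisors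

noncomputable section

namespace Groth.Agent.LC15.PicDesc

open Var76.LineBundle Var76.ZeroScheme

variable {X Y : Scheme.{u}}

theorem exists_tau (f : X ⟶ Y) [Flat f] [IsLocallyNoetherian Y] (hY : Pi1.IsNormalScheme Y) {η : Y}
    (hη : IsMaxPt η) {L : X.Modules} (hL : PicF.IsInvertible L)
    (i : (Scheme.Modules.pullback (f.fiberι η)).obj L ≅ Coh.structureModule (f.fiber η))
    (c : (Y.presheaf.stalk η)ˣ) (O : X.Opens) (hgood : ∀ x : O, Good f i x.1 c) :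
    ∃ t : Γ(L, O), IsFrame L O t ∧ gF f i O t = psi f η O c := by
  choose U e hxU hU he hg using hgood
  let U' : O → X.Opens := fun x => U x ⊓ O
  have hg' : ∀ x, gF f i (U' x) (res L (inf_le_left : U' x ≤ U x) (e x)) = psi f η (U' x) c := fun x => by
    rw [gF_res, hg, psi_res]
  obtain ⟨t, ht⟩ := QC70.exists_glue L U' (fun x => inf_le_right)
    (fun y hy => Opens.mem_iSup.2 ⟨⟨y, hy⟩, hxU ⟨y, hy⟩, hy⟩)
    (fun x => res L inf_le_left (e x)) (fun x y => by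
      show res L _ (res L _ _) = res L _ (res L _ _)
      rw [res_res, res_res]
      refine sec_ext f hY hη hL i (fun z (hz : z ∈ U' x ⊓ U' y) => hU x z hz.1.1) ?_
      rw [gF_res, gF_res, hg, hg, psi_res, psi_res])
  replace ht : ∀ x, res L (inf_le_right : U' x ≤ O) t = res L inf_le_left (e x) := ht
  refine ⟨t, Amp73.isFrame_of_locally t fun x hx => ⟨U' ⟨x, hx⟩, inf_le_right, ⟨hxU _, hx⟩, ?_⟩, ?_⟩
  · rw [ht]
    exact (he _).res _
  · refine TopCat.Sheaf.eq_of_locally_eq' (f.fiber η).sheaf (fun x => f.fiberι η ⁻¹ᵁ U' x) _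
      (fun x => homOfLE ((f.fiberι η).preimage_mono inf_le_right))
      (fun w hw => Opens.mem_iSup.2 ⟨⟨f.fiberι η w, hw⟩, hxU ⟨f.fiberι η w, hw⟩, hw⟩) _ _ fun x => ?_
    show fres _ _ = fres _ _
    rw [← gF_res f i (inf_le_right : U' x ≤ O), ht, hg', psi_res]

theorem exists_trans (f : X ⟶ Y) [Flat f] [IsLocallyNoetherian Y] (hY : Pi1.IsNormalScheme Y) {η : Y}
    (hη : IsMaxPt η) {L : X.Modules} (hL : PicF.IsInvertible L)
    (i : (Scheme.Modules.pullback (f.fiberι η)).obj L ≅ Coh.structureModule (f.fiber η))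
    {V V' : Y.Opens} {t : Γ(L, f ⁻¹ᵁ V)} {t' : Γ(L, f ⁻¹ᵁ V')} {u u' : (Y.presheaf.stalk η)ˣ}
    (ht : gF f i (f ⁻¹ᵁ V) t = psi f η _ u) (ht' : gF f i (f ⁻¹ᵁ V') t' = psi f η _ u')
    (hV : ∀ z ∈ f ⁻¹ᵁ V, η ⤳ f z) {y : Y} (hy : y ∈ V) (hy' : y ∈ V') (hr : Ratio y u u') :
    ∃ (W : Y.Opens) (h : W ≤ V) (h' : W ≤ V') (a : Γ(Y, W)),
      y ∈ W ∧ res L (f.preimage_mono h') t' = f.app W a • res L (f.preimage_mono h) t := by
  obtain ⟨hs, r, hr⟩ := hr
  obtain ⟨W₀, hxW₀, r₀, rfl⟩ := Y.presheaf.exists_germ_eq (x := y) r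
  let W : Y.Opens := W₀ ⊓ V ⊓ V'
  have hxW : y ∈ W := ⟨⟨hxW₀, hy⟩, hy'⟩
  refine ⟨W, inf_le_left.trans inf_le_right, inf_le_right, fres (inf_le_left.trans inf_le_left) r₀, hxW,
    sec_ext f hY hη hL i (fun z (hz : z ∈ f ⁻¹ᵁ W) => hV z hz.1.2) ?_⟩
  rw [gF_smul, gF_res, gF_res, ht, ht', psi_res, psi_res,
    show ∀ a, f.app W a = (f.appLE W (f ⁻¹ᵁ W) le_rfl).hom a from fun a => (congrArg (fun φ => φ.hom a) f.app_eq_appLE),
    app_appLE f η (hs.mem_open W.2 hxW), ← map_mul]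
  refine congrArg _ (hr.symm.trans ?_)
  congr 1
  erw [TopCat.Presheaf.germ_res_apply, TopCat.Presheaf.germ_stalkSpecializes_apply]

theorem exists_pullback_iso [IsLocallyNoetherian X] [IsLocallyNoetherian Y] (f : X ⟶ Y) [Flat f] [Surjective f]
    (hf : QuasiCompact f ∨ IsOpenMap f) (hY : Pi1.IsNormalScheme Y)
    (hfib : ∀ y : Y, ringKrullDim (Y.presheaf.stalk y) = 1 → IsIntegral (f.fiber y))
    {L : X.Modules} (hL : PicF.IsInvertible L)
    (htriv : ∀ η : Y, IsMaxPt η →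
      Nonempty ((Scheme.Modules.pullback (f.fiberι η)).obj L ≅ Coh.structureModule (f.fiber η))) :
    ∃ M : Y.Modules, PicF.IsInvertible M ∧ Nonempty ((Scheme.Modules.pullback f).obj M ≅ L) := by
  have hq : Topology.IsQuotientMap f := by
    rcases hf with h | h
    · exact Flat.isQuotientMap_of_surjective f
    · exact h.isQuotientMap f.continuous f.surjective
  let C := Σ η : {η : Y // IsMaxPt η}, (Y.presheaf.stalk η.1)ˣ
  let P : C → X → Prop := fun c x => Good f (htriv c.1.1 c.1.2).some x c.2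
  have htr : ∀ (c : C) (x x' : X), f x' = f x → P c x → P c x' := fun c x x' e h =>
    h.transfer hY hfib c.1.2 hL e
  have hopen : ∀ c, IsOpen {y : Y | ∃ x, f x = y ∧ P c x} := fun c => by
    rw [← hq.isOpen_preimage]
    have : f ⁻¹' {y : Y | ∃ x, f x = y ∧ P c x} = {x | P c x} := by
      ext x
      exact ⟨fun ⟨x', e, h⟩ => htr c x' x e.symm h, fun h => ⟨x, rfl, h⟩⟩
    rw [this]
    refine isOpen_iff_forall_mem_open.2 fun x ⟨U, e, hx, hU, he, hg⟩ => ?_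
    exact ⟨U, fun y hy => ⟨U, e, hy, hU, he, hg⟩, U.2, hx⟩
  let V : C → Y.Opens := fun c => ⟨_, hopen c⟩
  have hP : ∀ c x, f x ∈ V c → P c x := fun c x ⟨x', e, h⟩ => htr c x' x e.symm h
  have hcov : ∀ y : Y, ∃ c, y ∈ V c := fun y => by
    obtain ⟨x, rfl⟩ := f.surjective y
    haveI := (hY (f x)).1
    obtain ⟨η, hη, hηx⟩ := exists_maxPt (f x)
    obtain ⟨c, hc⟩ := exists_good hY hfib hη hL (htriv η hη).some x hηx
    exact ⟨⟨⟨η, hη⟩, c⟩, x, rfl, hc⟩
  choose τ hτf hτg using fun c : C =>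
    exists_tau f hY c.1.2 hL (htriv c.1.1 c.1.2).some c.2 (f ⁻¹ᵁ V c) fun x => hP c x.1 x.2
  refine exists_pullback_of_frames f V hcov τ hτf fun c c' y hy hy' => ?_
  obtain ⟨x, rfl⟩ := f.surjective y
  obtain ⟨⟨η, hη⟩, u⟩ := c
  obtain ⟨⟨η', hη'⟩, u'⟩ := c'
  have g₁ : Good f (htriv η hη).some x u := hP ⟨⟨η, hη⟩, u⟩ x hy
  have g₂ : Good f (htriv η' hη').some x u' := hP ⟨⟨η', hη'⟩, u'⟩ x hy'
  haveI := (hY (f x)).1
  obtain rfl := eq_of_specializes hη hη' g₁.specializes g₂.specializes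
  exact exists_trans f hY hη hL (htriv η hη).some (hτg ⟨⟨η, hη⟩, u⟩) (hτg ⟨⟨η, hη'⟩, u'⟩)
    (fun z hz => Good.specializes (hP ⟨⟨η, hη⟩, u⟩ z hz)) hy hy' (g₁.ratio hY hη g₂)

end Groth.Agent.LC15.PicDesc

end
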